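import Cfsg.Agent.SteinbergGL.Mob
import Cfsg.Agent.GLFlags.Comp

/-!
Alternating sums of chain counts in a ranked lattice.
-/

set_option autoImplicit false

namespace Cfsg.Agent.SteinbergGL

open Finset Equiv
open scoped Classical

variable {L : Type*} [PartialOrder L] [OrderTop L] [Fintype L] (rk : L → ℕ)

/-- Counts chains above `W` with prescribed jumps, the first nonzero jump enlarged by `a`. -/
noncomputable def cnt : (m : ℕ) → (Fin m → ℕ) → ℕ → L → ℤ
  | 0, _, _, W => if W = ⊤ then 1 else 0
  | m + 1, μ, a, W => if μ 0 = 0 then cnt m (Fin.tail μ) a W else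
      ∑ U ∈ univ.filter (fun U => W ≤ U ∧ rk U = rk W + μ 0 + a), cnt m (Fin.tail μ) 0 U

theorem cnt_bump : ∀ (m : ℕ) (μ : Fin m → ℕ) (i₀ : Fin m) (a : ℕ) (W : L), μ i₀ ≠ 0 →
    (∀ i < i₀, μ i = 0) →
    cnt rk m (fun i => if i = i₀ then μ i + 1 else μ i) a W = cnt rk m μ (a + 1) W := by
  intro m
  induction m with
  | zero => exact fun μ i₀ => i₀.elim0
  | succ m ih =>
    intro μ i₀ a W hne hz
    rcases Fin.eq_zero_or_eq_succ i₀ with rfl | ⟨j, rfl⟩
    · have ht : Fin.tail (fun i => if i = 0 then μ i + 1 else μ i) = Fin.tail μ := by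
        funext i; simp [Fin.tail]
      simp only [cnt, if_pos, Nat.add_eq_zero_iff, one_ne_zero, and_false, if_false, hne, ht]
      refine Finset.sum_congr (Finset.filter_congr fun U _ => and_congr_right fun _ => ?_) fun _ _ => rfl
      omega
    · have h0 : μ 0 = 0 := hz 0 (Fin.succ_pos _)
      have ht : Fin.tail (fun i => if i = j.succ then μ i + 1 else μ i) =
          fun i => if i = j then Fin.tail μ i + 1 else Fin.tail μ i := by
        funext i; simp [Fin.tail]
      simp only [cnt, h0, (Fin.succ_ne_zero j).symm, if_false, if_true, ht]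
      exact ih _ j a W hne fun i hi => hz _ (Fin.succ_lt_succ_iff.2 hi)

/-- The parts attached to a permutation. -/
def parts {m : ℕ} (κ : Perm (Fin m)) (i : Fin m) : ℕ := 1 + i.val - (κ i).val

/-- Admissible permutations. -/
def Adm {m : ℕ} (κ : Perm (Fin m)) : Prop := ∀ i : Fin m, (κ i).val ≤ 1 + i.val

/-- The alternating sum of chain counts. -/
noncomputable def alt (m a : ℕ) (W : L) : ℤ :=
  ∑ κ : Perm (Fin m), if Adm κ then (Perm.sign κ : ℤ) * cnt rk m (parts κ) a W else 0

/-- One summand of the recursion. -/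
noncomputable def term {m : ℕ} (p : Fin (m + 1)) (a : ℕ) (W : L) (e : Perm (Fin m)) : ℤ :=
  if Adm (Perm.decomposeFin.symm (p, e)) then
    (Perm.sign (Perm.decomposeFin.symm (p, e)) : ℤ) *
      cnt rk (m + 1) (parts (Perm.decomposeFin.symm (p, e))) a W else 0

theorem alt_succ (m a : ℕ) (W : L) :
    alt rk (m + 1) a W = ∑ p : Fin (m + 1), ∑ e : Perm (Fin m), term rk p a W e := by
  rw [alt, ← Fintype.sum_prod_type', ← Equiv.sum_comp Perm.decomposeFin.symm]
  rfl

theorem sum_term_zero (m a : ℕ) (W : L) :
    ∑ e : Perm (Fin m), term rk 0 a W e =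
      ∑ U ∈ univ.filter (fun U => W ≤ U ∧ rk U = rk W + 1 + a), alt rk m 0 U := by
  simp only [alt]
  rw [Finset.sum_comm]
  refine Finset.sum_congr rfl fun e _ => ?_
  have hadm : Adm (Perm.decomposeFin.symm ((0 : Fin (m + 1)), e)) ↔ Adm e := by
    constructor
    · intro h i
      have := h i.succ
      simp only [Perm.decomposeFin_symm_apply_succ, swap_self, Equiv.refl_apply, Fin.val_succ] at this
      omega
    · intro h i
      rcases Fin.eq_zero_or_eq_succ i with rfl | ⟨j, rfl⟩
      · simp
      · have := h j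
        simp only [Perm.decomposeFin_symm_apply_succ, swap_self, Equiv.refl_apply, Fin.val_succ]
        omega
  have hparts : Fin.tail (parts (Perm.decomposeFin.symm ((0 : Fin (m + 1)), e))) = parts e := by
    funext i
    simp only [Fin.tail, parts, Perm.decomposeFin_symm_apply_succ, swap_self, Equiv.refl_apply, Fin.val_succ]
    omega
  have h0 : parts (Perm.decomposeFin.symm ((0 : Fin (m + 1)), e)) 0 = 1 := by simp [parts]
  unfold term
  by_cases h : Adm e
  · rw [if_pos (hadm.2 h), cnt, h0, if_neg one_ne_zero, hparts, Finset.mul_sum]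
    simp [h]
  · rw [if_neg (mt hadm.1 h)]
    simp [h]

theorem term_eq_zero {m : ℕ} (p : Fin (m + 1)) (a : ℕ) (W : L) (e : Perm (Fin m)) (hp : 2 ≤ p.val) :
    term rk p a W e = 0 := by
  rw [term, if_neg]
  intro h
  have := h 0
  rw [Perm.decomposeFin_symm_apply_zero] at this
  simp at this
  omega

theorem sum_term_one (m a : ℕ) (W : L) :
    ∑ e : Perm (Fin (m + 1)), term rk (1 : Fin (m + 2)) a W e = -alt rk (m + 1) (a + 1) W := by
  rw [alt, ← Finset.sum_neg_distrib]
  refine Finset.sum_congr rfl fun e _ => ?_
  set i₀ := e.symm 0 with hi₀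
  have hsucc : ∀ i, (Perm.decomposeFin.symm ((1 : Fin (m + 2)), e) i.succ).val =
      if i = i₀ then 0 else (e i).val + 1 := fun i => by
    rw [Perm.decomposeFin_symm_apply_succ]
    split_ifs with h
    · have : e i = 0 := by rw [h, hi₀, apply_symm_apply]
      simp [this]
    · have hne : e i ≠ 0 := fun h' => h (by rw [hi₀, ← h', symm_apply_apply])
      rw [swap_apply_of_ne_of_ne (Fin.succ_ne_zero _) (fun h' => hne (Fin.succ_injective _ (by simpa using h'))),
        Fin.val_succ]
  have hzero : (Perm.decomposeFin.symm ((1 : Fin (m + 2)), e) 0).val = 1 := by simp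
  have hei : (e i₀).val = 0 := by simp [hi₀]
  have hadm : Adm (Perm.decomposeFin.symm ((1 : Fin (m + 2)), e)) ↔ Adm e := by
    constructor
    · intro h i
      have := h i.succ
      rw [hsucc, Fin.val_succ] at this
      by_cases hi : i = i₀
      · subst hi; omega
      · rw [if_neg hi] at this; omega
    · intro h i
      rcases Fin.eq_zero_or_eq_succ i with rfl | ⟨j, rfl⟩
      · rw [hzero]; simp
      · have := h j
        rw [hsucc, Fin.val_succ]
        split_ifs <;> omega
  unfold term
  by_cases h : Adm e
  · have hstep : ∀ k : ℕ, ∀ i : Fin (m + 1), i.val = k → i < i₀ → (e i).val = k + 1 := by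
      intro k
      induction k using Nat.strong_induction_on with
      | _ k ih =>
        intro i hik hi
        have h1 := h i
        have hne : e i ≠ 0 := fun h' => hi.ne (by rw [hi₀, ← h', symm_apply_apply])
        have h2 : (e i).val ≠ 0 := fun h' => hne (Fin.ext h')
        by_contra hc
        let i' : Fin (m + 1) := ⟨(e i).val - 1, by omega⟩
        have h3 := ih ((e i).val - 1) (by omega) i' rfl (lt_trans (Fin.lt_def.2 (by simp [i']; omega)) hi)
        have h4 : e i' = e i := Fin.ext (by omega)
        have h5 := congrArg Fin.val (e.injective h4)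
        simp [i'] at h5
        omega
    have hne0 : parts e i₀ ≠ 0 := by unfold parts; omega
    have hz : ∀ i < i₀, parts e i = 0 := fun i hi => by
      unfold parts
      rw [hstep _ i rfl hi]; omega
    have hp0 : parts (Perm.decomposeFin.symm ((1 : Fin (m + 2)), e)) 0 = 0 := by
      unfold parts; rw [hzero]; simp
    have ht : Fin.tail (parts (Perm.decomposeFin.symm ((1 : Fin (m + 2)), e))) =
        fun i => if i = i₀ then parts e i + 1 else parts e i := by
      funext i
      have := h i
      simp only [Fin.tail, parts, hsucc, Fin.val_succ]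
      split_ifs with hi
      · subst hi; omega
      · omega
    rw [if_pos (hadm.2 h), if_pos h, cnt, hp0, if_pos rfl, ht,
      cnt_bump rk (m + 1) _ i₀ a W hne0 hz, Perm.decomposeFin.symm_sign]
    simp
  · rw [if_neg (mt hadm.1 h), if_neg h, neg_zero]

variable {rk}

theorem alt_eq (hrk : StrictMono rk) : ∀ (m a : ℕ) (W : L), rk W + a + m = rk (⊤ : L) →
    (a = 0 → alt rk m a W = (-1) ^ m * mob W) ∧
    (∀ k, m = k + 1 →
      alt rk m a W = (-1) ^ k * ∑ U ∈ univ.filter (fun U => W ≤ U ∧ rk W + a < rk U), mob U) := by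
  intro m
  induction m with
  | zero =>
    intro a W hW
    refine ⟨fun ha => ?_, fun k hk => by omega⟩
    have hT : W = ⊤ := by
      by_contra hne
      have := hrk (lt_top_iff_ne_top.2 hne)
      omega
    subst hT
    simp [alt, cnt, Adm, mob_top]
  | succ m ih =>
    intro a W hW
    have hB : alt rk (m + 1) a W =
        (-1) ^ m * ∑ U ∈ univ.filter (fun U => W ≤ U ∧ rk W + a < rk U), mob U := by
      have hfirst : ∑ U ∈ univ.filter (fun U => W ≤ U ∧ rk U = rk W + 1 + a), alt rk m 0 U =
          (-1) ^ m * ∑ U ∈ univ.filter (fun U => W ≤ U ∧ rk U = rk W + 1 + a), mob U := by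
        rw [Finset.mul_sum]
        refine Finset.sum_congr rfl fun U hU => ?_
        exact (ih 0 U (by simp at hU; omega)).1 rfl
      rw [alt_succ, Fin.sum_univ_succ, sum_term_zero, hfirst]
      cases m with
      | zero =>
        have : univ.filter (fun U : L => W ≤ U ∧ rk U = rk W + 1 + a) =
            univ.filter (fun U => W ≤ U ∧ rk W + a < rk U) := by
          refine Finset.filter_congr fun U _ => ?_
          have := hrk.monotone (le_top (a := U))
          constructor <;> rintro ⟨h1, h2⟩ <;> exact ⟨h1, by omega⟩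
        simp [this]
      | succ m =>
        rw [Fin.sum_univ_succ, Finset.sum_eq_zero (s := (univ : Finset (Fin m)))
          (fun p _ => Finset.sum_eq_zero fun e _ => term_eq_zero rk _ a W e (by simp)), add_zero,
          Fin.succ_zero_eq_one, sum_term_one, (ih (a + 1) W (by omega)).2 m rfl]
        have hsplit : ∑ U ∈ univ.filter (fun U => W ≤ U ∧ rk W + a < rk U), mob U =
            ∑ U ∈ univ.filter (fun U => W ≤ U ∧ rk U = rk W + 1 + a), mob U +
              ∑ U ∈ univ.filter (fun U => W ≤ U ∧ rk W + (a + 1) < rk U), mob U := by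
          rw [← Finset.sum_union (Finset.disjoint_filter.2 fun U _ h1 h2 => by omega), ← Finset.filter_or]
          refine Finset.sum_congr (Finset.filter_congr fun U _ => ?_) fun _ _ => rfl
          by_cases hle : W ≤ U <;> simp [hle]
          omega
        rw [hsplit]
        ring
    refine ⟨fun ha => ?_, fun k hk => ?_⟩
    · subst ha
      have hne : W ≠ ⊤ := fun e => by subst e; omega
      have hf : univ.filter (fun U => W ≤ U ∧ rk W + 0 < rk U) = univ.filter (fun U => W < U) := by
        refine Finset.filter_congr fun U _ => ⟨fun h => lt_of_le_of_ne h.1 (fun e => by subst e; omega), fun h => ⟨h.le, by simpa using hrk h⟩⟩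
      rw [hB, hf, mob_eq hne]
      ring
    · obtain rfl : m = k := by omega
      exact hB

/-- Chains above `W` with prescribed jumps. -/
def IsChainFrom {m : ℕ} (rk : L → ℕ) (μ : Fin m → ℕ) (W : L) (c : Fin m → L) : Prop :=
  Monotone c ∧ ∀ k : Fin m, W ≤ c k ∧ rk (c k) = rk W + GLFlags.psum μ (k.val + 1)

theorem psum_cons {m : ℕ} (μ : Fin (m + 1) → ℕ) (k : ℕ) :
    GLFlags.psum μ (k + 1) = μ 0 + GLFlags.psum (Fin.tail μ) k := by
  simp [GLFlags.psum, Finset.sum_filter, Fin.sum_univ_succ, Fin.tail]

theorem cnt_eq_card (hrk : StrictMono rk) : ∀ (m : ℕ) (μ : Fin m → ℕ) (W : L),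
    rk W + GLFlags.psum μ m = rk (⊤ : L) →
    cnt rk m μ 0 W = Nat.card {c : Fin m → L // IsChainFrom rk μ W c} := by
  intro m
  induction m with
  | zero =>
    intro μ W hW
    have hT : W = ⊤ := by
      by_contra hne
      have := hrk (lt_top_iff_ne_top.2 hne)
      simp [GLFlags.psum] at hW
      omega
    rw [cnt, if_pos hT, Nat.card_eq_one_iff_unique.2 ⟨⟨fun x y => Subtype.ext (Subsingleton.elim _ _)⟩,
      ⟨⟨Fin.elim0, fun i => i.elim0, fun k => k.elim0⟩⟩⟩, Nat.cast_one]
  | succ m ih =>
    intro μ W hW
    rw [psum_cons] at hW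
    have hcnt : cnt rk (m + 1) μ 0 W =
        ∑ U ∈ univ.filter (fun U => W ≤ U ∧ rk U = rk W + μ 0), cnt rk m (Fin.tail μ) 0 U := by
      simp only [cnt, add_zero]
      split_ifs with h0
      · rw [Finset.sum_eq_single W]
        · intro U hU hne
          simp only [mem_filter, mem_univ, true_and] at hU
          have := hrk (lt_of_le_of_ne hU.1 (Ne.symm hne))
          omega
        · intro hn
          simp [h0] at hn
      · rfl
    rw [hcnt]
    have he : {c : Fin (m + 1) → L // IsChainFrom rk μ W c} ≃
        Σ U : {U : L // W ≤ U ∧ rk U = rk W + μ 0}, {c : Fin m → L // IsChainFrom rk (Fin.tail μ) U.1 c} :=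
      { toFun := fun c => ⟨⟨c.1 0, (c.2.2 0).1, by
            have := (c.2.2 0).2
            rw [Fin.val_zero, zero_add, psum_cons, GLFlags.psum_zero] at this
            simpa using this⟩,
          ⟨Fin.tail c.1, fun i j hij => c.2.1 (Fin.succ_le_succ_iff.2 hij), fun k => ⟨c.2.1 (Fin.zero_le _), by
            have h1 := (c.2.2 k.succ).2
            have h2 := (c.2.2 0).2
            rw [Fin.val_succ, psum_cons] at h1
            rw [Fin.val_zero, zero_add, psum_cons, GLFlags.psum_zero] at h2
            show rk (c.1 k.succ) = rk (c.1 0) + _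
            omega⟩⟩⟩
        invFun := fun c => ⟨Fin.cons c.1.1 c.2.1, by
          constructor
          · intro i j hij
            rcases Fin.eq_zero_or_eq_succ i with rfl | ⟨i, rfl⟩ <;>
              rcases Fin.eq_zero_or_eq_succ j with rfl | ⟨j, rfl⟩
            · exact le_rfl
            · simpa using (c.2.2.2 j).1
            · exact absurd hij (by simp)
            · simpa using c.2.2.1 (Fin.succ_le_succ_iff.1 hij)
          · intro k
            rcases Fin.eq_zero_or_eq_succ k with rfl | ⟨k, rfl⟩
            · refine ⟨c.1.2.1, ?_⟩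
              rw [Fin.val_zero, zero_add, psum_cons, GLFlags.psum_zero]
              simpa using c.1.2.2
            · refine ⟨by simpa using c.1.2.1.trans (c.2.2.2 k).1, ?_⟩
              have h1 := (c.2.2.2 k).2
              have h2 := c.1.2.2
              rw [Fin.val_succ, psum_cons, Fin.cons_succ]
              omega⟩
        left_inv := fun c => Subtype.ext (Fin.cons_self_tail _)
        right_inv := fun c => by
          obtain ⟨⟨U, hU⟩, ⟨c, hc⟩⟩ := c
          rfl }
    rw [Nat.card_congr he, Nat.card_sigma, Nat.cast_sum,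
      Finset.sum_subtype (univ.filter fun U => W ≤ U ∧ rk U = rk W + μ 0)
        (p := fun U => W ≤ U ∧ rk U = rk W + μ 0) (fun U => by simp)]
    refine Finset.sum_congr rfl fun U _ => ih _ U.1 ?_
    rw [U.2.2]
    omega

end Cfsg.Agent.SteinbergGL
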