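import Cfsg.Agent.GLFlags.Comp
import Cfsg.Agent.Classical.GLParabolic
import Cfsg.Prelude.Def_ParabolicCharacters

/-!
Fixed cosets of a standard parabolic subgroup and invariant flags.
-/

set_option autoImplicit false

namespace Cfsg.Agent.SteinbergGL

open Matrix Module Classical.GLPar

variable {F : Type*} [Field F] {n : ℕ}

theorem im_coordSub_le {g : GL (Fin n) F} {d : ℕ} {X : Submodule F (Fin n → F)}
    (h : ∀ i : Fin n, i.val < d → g.1 *ᵥ Pi.single i 1 ∈ X) : im g (coordSub F n d) ≤ X := by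
  rintro _ ⟨v, hv, rfl⟩
  rw [pi_eq_sum_univ' v, map_sum]
  refine Submodule.sum_mem _ fun i _ => ?_
  by_cases hi : i.val < d
  · rw [map_smul]
    exact X.smul_mem _ (by simpa using h i hi)
  · rw [hv i (Nat.not_lt.1 hi), zero_smul, map_zero]
    exact X.zero_mem

theorem single_mem_coordSub {d : ℕ} {i : Fin n} (h : i.val < d) :
    (Pi.single i (1 : F) : Fin n → F) ∈ coordSub F n d := fun l hl =>
  Pi.single_eq_of_ne (fun e => by subst e; omega) _

theorem im_eq_of_le {g : GL (Fin n) F} {d : ℕ} (hd : d ≤ n) {X : Submodule F (Fin n → F)}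
    (hX : finrank F X = d) (h : im g (coordSub F n d) ≤ X) : im g (coordSub F n d) = X :=
  Submodule.eq_of_le_of_finrank_eq h (by rw [finrank_im, finrank_coordSub hd, hX])

theorem exists_extend {a b : ℕ} (hab : a ≤ b) (hbn : b ≤ n) {W : Submodule F (Fin n → F)}
    (hW : coordSub F n a ≤ W) (hr : finrank F W = b) :
    ∃ h : GL (Fin n) F, im h (coordSub F n b) = W ∧ ∀ d ≤ a, im h (coordSub F n d) = coordSub F n d := by
  obtain ⟨C, hC⟩ := Submodule.exists_isCompl (coordSub F n a)
  have hdis : Disjoint (coordSub F n a) (W ⊓ C) := hC.disjoint.mono_right inf_le_right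
  have hsup : coordSub F n a ⊔ W ⊓ C = W := by
    rw [inf_comm, ← sup_inf_assoc_of_le C hW, hC.sup_eq_top, top_inf_eq]
  have hD : finrank F ↥(W ⊓ C) = b - a := by
    have := Submodule.finrank_sup_add_finrank_inf_eq (coordSub F n a) (W ⊓ C)
    rw [hsup, hdis.eq_bot, finrank_bot, hr, finrank_coordSub (hab.trans hbn)] at this
    omega
  let bD := Module.finBasisOfFinrankEq F ↥(W ⊓ C) hD
  let e : Fin n → Fin n → F := fun i => Pi.single i 1
  have he : LinearIndependent F e := by
    have := (Pi.basisFun F (Fin n)).linearIndependent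
    convert this using 1
    funext i
    simp [e]
  let idx : Fin a ⊕ Fin (b - a) → Fin n :=
    Sum.elim (fun i => ⟨i.val, by omega⟩) (fun i => ⟨a + i.val, by omega⟩)
  have hidx : Function.Injective idx := by
    rintro (i | i) (j | j) hij <;> simp [idx, Fin.ext_iff] at hij ⊢ <;> omega
  let w : Fin a ⊕ Fin (b - a) → Fin n → F :=
    Sum.elim (fun i => e ⟨i.val, by omega⟩) (fun i => (bD i).1)
  have hwA : ∀ i : Fin a, e ⟨i.val, by omega⟩ ∈ coordSub F n a := fun i => single_mem_coordSub i.isLt
  have hw : LinearIndependent F w := by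
    refine LinearIndependent.sum_type (he.comp _ fun i j h => Fin.ext (by simpa using congrArg Fin.val h))
      (bD.linearIndependent.map' (W ⊓ C).subtype (Submodule.ker_subtype _)) (hdis.mono ?_ ?_)
    · rw [Submodule.span_le]
      rintro _ ⟨i, rfl⟩
      exact hwA i
    · rw [Submodule.span_le]
      rintro _ ⟨i, rfl⟩
      exact (bD i).2
  obtain ⟨h, hh⟩ := exists_equiv_of_indep (he.comp idx hidx) hw
  have hlow : ∀ i : Fin n, i.val < a → h.1 *ᵥ Pi.single i 1 = Pi.single i (1 : F) := fun i hi =>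
    hh (Sum.inl ⟨i.val, hi⟩)
  refine ⟨h, im_eq_of_le hbn hr (im_coordSub_le fun i hi => ?_), fun d hd =>
    im_eq_of_le (hd.trans (hab.trans hbn)) (finrank_coordSub (hd.trans (hab.trans hbn)))
      (im_coordSub_le fun i hi => ?_)⟩
  · by_cases hia : i.val < a
    · rw [hlow i hia]; exact hW (single_mem_coordSub hia)
    · have := hh (Sum.inr ⟨i.val - a, by omega⟩)
      have hi' : idx (Sum.inr ⟨i.val - a, by omega⟩) = i := Fin.ext (by simp [idx]; omega)
      simp only [Function.comp_apply, hi', e] at this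
      rw [this]
      exact inf_le_left (b := C) (bD _).2
  · rw [hlow i (by omega)]
    exact single_mem_coordSub hi

theorem exists_adapted (d : Fin n → ℕ) (c : Fin n → Submodule F (Fin n → F)) (hc : Monotone c)
    (hd : ∀ k, finrank F (c k) = d k) :
    ∀ j ≤ n, ∃ g : GL (Fin n) F, ∀ k : Fin n, k.val < j → im g (coordSub F n (d k)) = c k := by
  have hdn : ∀ k, d k ≤ n := fun k => hd k ▸ (Submodule.finrank_le _).trans_eq (Module.finrank_fin_fun F)
  intro j
  induction j with
  | zero => exact fun _ => ⟨1, fun k hk => absurd hk (Nat.not_lt_zero _)⟩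
  | succ j ih =>
    intro hj
    obtain ⟨g, hg⟩ := ih (by omega)
    let k₀ : Fin n := ⟨j, hj⟩
    let a : ℕ := if h : j = 0 then 0 else d ⟨j - 1, by omega⟩
    have hak : ∀ k : Fin n, k.val < j → d k ≤ a := fun k hk => by
      simp only [a, dif_neg (show j ≠ 0 by omega)]
      rw [← hd k, ← hd ⟨j - 1, by omega⟩]
      exact Submodule.finrank_mono (hc (Fin.le_def.2 (by simp; omega)))
    have hsub : coordSub F n a ≤ im g⁻¹ (c k₀) ∧ a ≤ d k₀ := by
      simp only [a]
      split_ifs with h
      · refine ⟨fun v hv => ?_, Nat.zero_le _⟩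
        have : v = 0 := funext fun i => hv i (Nat.zero_le _)
        subst this
        exact Submodule.zero_mem _
      · have hle : c ⟨j - 1, by omega⟩ ≤ c k₀ := hc (Fin.le_def.2 (by simp [k₀]))
        refine ⟨?_, by rw [← hd, ← hd]; exact Submodule.finrank_mono hle⟩
        calc coordSub F n (d ⟨j - 1, by omega⟩)
            = im g⁻¹ (im g (coordSub F n (d ⟨j - 1, by omega⟩))) := by
              rw [← im_mul, inv_mul_cancel, im_one]
          _ ≤ im g⁻¹ (c k₀) := by
              rw [hg _ (by simp; omega)]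
              exact Submodule.map_mono hle
    obtain ⟨h, hh1, hh2⟩ := exists_extend hsub.2 (hdn k₀) hsub.1 (by rw [finrank_im, hd])
    refine ⟨g * h, fun k hk => ?_⟩
    rcases Nat.lt_succ_iff_lt_or_eq.1 hk with hk' | hk'
    · rw [im_mul, hh2 _ (hak k hk'), hg k hk']
    · obtain rfl : k = k₀ := Fin.ext hk'
      rw [im_mul, hh1, ← im_mul, mul_inv_cancel, im_one]

variable {μ : Fin n → ℕ}

theorem psum_le (hμ : ∑ k, μ k = n) (k : Fin n) : GLFlags.psum μ (k.val + 1) ≤ n := by
  have := GLFlags.psum_mono μ (show k.val + 1 ≤ n by omega)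
  rwa [GLFlags.psum_self, hμ] at this

theorem mem_parabolicGL_iff (hμ : ∑ k, μ k = n) (g : GL (Fin n) F) :
    g ∈ Cfsg.parabolicGL n F μ ↔
      ∀ k : Fin n, im g (coordSub F n (GLFlags.psum μ (k.val + 1))) = coordSub F n (GLFlags.psum μ (k.val + 1)) := by
  constructor
  · intro h k
    refine im_eq_of_le (psum_le hμ k) (finrank_coordSub (psum_le hμ k)) ?_
    rintro _ ⟨v, hv, rfl⟩
    refine (maps_iff g.1).2 (fun i j hi hj => h ?_) v hv
    have h1 := (GLFlags.psum_le_iff_lt_compLabel μ i k).1 hi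
    have h2 : ¬ k.val < compLabel μ j := fun h2 => by
      have := (GLFlags.psum_le_iff_lt_compLabel μ j k).2 h2
      omega
    omega
  · intro h i j hij
    have hj := GLFlags.compLabel_lt hμ j
    let k : Fin n := ⟨compLabel μ j, hj⟩
    refine (maps_iff g.1).1 (fun v hv => ?_) i j ((GLFlags.psum_le_iff_lt_compLabel μ i k).2 hij) ?_
    · exact (h k).le (Submodule.mem_map_of_mem hv)
    · by_contra hc
      have := (GLFlags.psum_le_iff_lt_compLabel μ j k).1 (Nat.not_lt.1 hc)
      simp [k] at this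

/-- Fixed cosets of a parabolic subgroup are invariant flags. -/
theorem card_fixedBy (hμ : ∑ k, μ k = n) (x : GL (Fin n) F) :
    Nat.card (MulAction.fixedBy (GL (Fin n) F ⧸ Cfsg.parabolicGL n F μ) x) =
      Nat.card {c : Fin n → Submodule F (Fin n → F) //
        Monotone c ∧ ∀ k, finrank F (c k) = GLFlags.psum μ (k.val + 1) ∧ im x (c k) = c k} := by
  set P := Cfsg.parabolicGL n F μ
  have hiff : ∀ g g' : GL (Fin n) F, (g : GL (Fin n) F ⧸ P) = g' ↔
      ∀ k : Fin n, im g (coordSub F n (GLFlags.psum μ (k.val + 1))) =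
        im g' (coordSub F n (GLFlags.psum μ (k.val + 1))) := fun g g' => by
    rw [QuotientGroup.eq, mem_parabolicGL_iff hμ]
    refine forall_congr' fun k => ?_
    constructor
    · intro h
      conv_lhs => rw [← h]
      rw [← im_mul, mul_inv_cancel_left]
    · intro h
      rw [im_mul, ← h, ← im_mul, inv_mul_cancel, im_one]
  have hex : ∀ c : {c : Fin n → Submodule F (Fin n → F) //
      Monotone c ∧ ∀ k, finrank F (c k) = GLFlags.psum μ (k.val + 1) ∧ im x (c k) = c k},
      ∃ g : GL (Fin n) F, ∀ k : Fin n, im g (coordSub F n (GLFlags.psum μ (k.val + 1))) = c.1 k := fun c => by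
    obtain ⟨g, hg⟩ := exists_adapted _ c.1 c.2.1 (fun k => (c.2.2 k).1) n le_rfl
    exact ⟨g, fun k => hg k k.isLt⟩
  choose g hg using hex
  refine (Nat.card_eq_of_bijective (fun c => (⟨(g c : GL (Fin n) F ⧸ P), ?_⟩ :
    MulAction.fixedBy (GL (Fin n) F ⧸ P) x)) ⟨?_, ?_⟩).symm
  · show ((x * g c : GL (Fin n) F) : GL (Fin n) F ⧸ P) = _
    rw [hiff]
    intro k
    rw [im_mul, hg, (c.2.2 k).2]
  · intro c c' h
    simp only [Subtype.mk.injEq, hiff] at h
    exact Subtype.ext (funext fun k => by rw [← hg c k, ← hg c' k, h k])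
  · rintro ⟨q, hq⟩
    induction q using QuotientGroup.induction_on with
    | _ a =>
      have ha : ((x * a : GL (Fin n) F) : GL (Fin n) F ⧸ P) = a := hq
      refine ⟨⟨fun k => im a (coordSub F n (GLFlags.psum μ (k.val + 1))), fun i j hij => ?_, fun k =>
        ⟨by rw [finrank_im, finrank_coordSub (psum_le hμ k)], by rw [← im_mul]; exact (hiff _ _).1 ha k⟩⟩,
        Subtype.ext ?_⟩
      · refine Submodule.map_mono fun v hv l hl => hv l ?_
        exact le_trans (GLFlags.psum_mono μ (by simpa using hij)) hl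
      · show ((g _ : GL (Fin n) F) : GL (Fin n) F ⧸ P) = _
        rw [hiff]
        exact fun k => hg _ k

end Cfsg.Agent.SteinbergGL
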