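import Cfsg.Agent.SteinbergGL.Module
import Cfsg.Agent.SteinbergGL.Chain
import Cfsg.Agent.SteinbergGL.Flags
import Cfsg.Prelude.Def_LinearParabolics

/-!
The alternating sum of parabolic permutation characters at a semisimple element.
-/

set_option autoImplicit false
set_option linter.unusedSectionVars false

open scoped Classical

namespace Cfsg.Agent.SteinbergGL

open Polynomial Module Classical.GLPar

variable {F : Type*} [Field F] [Fintype F] {n : ℕ}

theorem stExp_eq (s : Multiset F[X]) :
    stExp s = ∑ f ∈ s.toFinset, f.natDegree * s.count f * (s.count f - 1) / 2 := by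
  refine Finset.sum_congr rfl fun f _ => ?_
  rw [Nat.choose_two_right, mul_assoc, ← Nat.mul_div_assoc _ (Nat.even_mul_pred_self _).two_dvd]

theorem sum_parts (κ : Equiv.Perm (Fin n)) (h : Adm κ) : ∑ k, parts κ k = n := by
  have h1 : ∑ k, parts κ k + ∑ k, (κ k).val = ∑ k : Fin n, (1 + k.val) := by
    rw [← Finset.sum_add_distrib]
    exact Finset.sum_congr rfl fun k _ => by unfold parts; have := h k; omega
  rw [Equiv.sum_comp κ (fun k => k.val), Finset.sum_add_distrib] at h1
  simpa using h1

theorem unipotentCharacterGL_one_eq_mob (x : GL (Fin n) F)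
    [Finite (Submodule F[X] (AEval' x.1.mulVecLin))] :
    Cfsg.unipotentCharacterGL n F (fun _ => 1) x =
      (((-1) ^ n * mob (⊥ : Submodule F[X] (AEval' x.1.mulVecLin)) : ℤ) : ℂ) := by
  let T : Module.End F (Fin n → F) := x.1.mulVecLin
  let := Fintype.ofFinite (Submodule F[X] (AEval' T))
  let toV : Submodule F[X] (AEval' T) → Submodule F (Fin n → F) := fun W =>
    ((AEval.mapSubmodule F (Fin n → F) T).symm W).1
  have htoV : ∀ {W W' : Submodule F[X] (AEval' T)}, toV W ≤ toV W' ↔ W ≤ W' := fun {W W'} =>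
    (AEval.mapSubmodule F (Fin n → F) T).symm.le_iff_le
  let rk : Submodule F[X] (AEval' T) → ℕ := fun W => finrank F (toV W)
  have hrk : StrictMono rk := fun W W' h =>
    Submodule.finrank_lt_finrank_of_lt (lt_iff_le_not_ge.2 ⟨htoV.2 h.le, fun hh => not_le_of_gt h (htoV.1 hh)⟩)
  have htop : rk ⊤ = n := by
    have : toV ⊤ = ⊤ := eq_top_iff.2 fun v _ => trivial
    show finrank F (toV ⊤) = n
    rw [this, finrank_top, Module.finrank_fin_fun]
  have hbot : rk ⊥ = 0 := by
    have : toV ⊥ = ⊥ := eq_bot_iff.2 fun v hv => by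
      have hv' : AEval.of F (Fin n → F) T v ∈ (⊥ : Submodule F[X] (AEval' T)) := hv
      rw [Submodule.mem_bot] at hv' ⊢
      exact (AEval.of F (Fin n → F) T).injective (by rw [hv', map_zero])
    show finrank F (toV ⊥) = 0
    rw [this, finrank_bot]
  have hinv : ∀ W, im x (toV W) = toV W := fun W => by
    refine Submodule.eq_of_le_of_finrank_eq ?_ (finrank_im x _)
    rintro _ ⟨v, hv, rfl⟩
    exact ((AEval.mapSubmodule F (Fin n → F) T).symm W).2 hv
  rw [← (alt_eq hrk n 0 ⊥ (by rw [hbot, htop]; omega)).1 rfl, alt, Int.cast_sum, Cfsg.unipotentCharacterGL]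
  refine Finset.sum_congr rfl fun κ _ => ?_
  by_cases h : Adm κ
  · rw [if_pos h, if_pos (show ∀ i : Fin n, (κ i).val ≤ 1 + i.val from h)]
    push_cast
    congr 1
    rw [cnt_eq_card hrk n (parts κ) ⊥ (by rw [hbot, htop, GLFlags.psum_self, sum_parts κ h, zero_add]),
      Int.cast_natCast, Cfsg.fixedPointCharacter, Nat.cast_inj]
    refine (card_fixedBy (μ := parts κ) (sum_parts κ h) x).trans (Nat.card_congr ?_)
    refine
      { toFun := fun c => ⟨fun k => AEval.mapSubmodule F (Fin n → F) T ⟨c.1 k, ?_⟩, ?_, ?_⟩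
        invFun := fun c => ⟨fun k => toV (c.1 k), fun i j hij => htoV.2 (c.2.1 hij), fun k =>
          ⟨by have := (c.2.2 k).2; rw [hbot, zero_add] at this; exact this, hinv _⟩⟩
        left_inv := fun c => Subtype.ext (funext fun k => by simp [toV])
        right_inv := fun c => Subtype.ext (funext fun k => by simp [toV]) }
    · show c.1 k ≤ Submodule.comap T (c.1 k)
      intro v hv
      exact (c.2.2 k).2.le (Submodule.mem_map_of_mem hv)
    · exact fun i j hij => (AEval.mapSubmodule F (Fin n → F) T).le_iff_le.2 (c.2.1 hij)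
    · intro k
      refine ⟨bot_le, ?_⟩
      rw [hbot, zero_add]
      show finrank F ((AEval.mapSubmodule F (Fin n → F) T).symm ((AEval.mapSubmodule F (Fin n → F) T) ⟨c.1 k, _⟩)).1 = _
      rw [OrderIso.symm_apply_apply]
      exact (c.2.2 k).1
  · rw [if_neg h, if_neg (show ¬ ∀ i : Fin n, (κ i).val ≤ 1 + i.val from h), Int.cast_zero]

theorem steinberg_value {q : ℕ} (hq : Fintype.card F = q) (p : ℕ) [Fact p.Prime] [CharP F p]
    (x : GL (Fin n) F) (hx : (orderOf x).Coprime p) :
    ∃ s : Multiset F[X], UniqueFactorizationMonoid.normalizedFactors x.1.charpoly = s ∧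
      Cfsg.unipotentCharacterGL n F (fun _ => 1) x =
        ∏ f ∈ s.toFinset, (-1 : ℂ) ^ ((f.natDegree - 1) * s.count f) *
          (q : ℂ) ^ (f.natDegree * s.count f * (s.count f - 1) / 2) := by
  let T : Module.End F (Fin n → F) := x.1.mulVecLin
  have : Finite (AEval' T) := Finite.of_equiv _ (AEval'.of T).toEquiv
  have hk : (orderOf x : F) ≠ 0 := by
    rw [Ne, CharP.cast_eq_zero_iff F p]
    exact (Fact.out (p := p.Prime)).coprime_iff_not_dvd.1 hx.symm
  have haev : aeval T (X ^ orderOf x - C (1 : F)) = 0 := by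
    have h1 : T ^ orderOf x = 1 := by
      show (Matrix.toLinAlgEquiv' x.1 : Module.End F (Fin n → F)) ^ orderOf x = 1
      rw [← map_pow, ← Units.val_pow_eq_pow_val, pow_orderOf_eq_one, Units.val_one, map_one]
    rw [map_sub, map_pow, aeval_X, aeval_C, map_one, h1, sub_self]
  have : IsSemisimpleModule F[X] (AEval' T) :=
    Module.End.isSemisimple_of_squarefree_aeval_eq_zero
      (separable_X_pow_sub_C 1 hk one_ne_zero).squarefree haev
  obtain ⟨s, hs, hcp, -, hmob⟩ := mob_module (F := F) _ (AEval' T) rfl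
  have hT : (actX F (AEval' T)).charpoly = x.1.charpoly := by
    have : (AEval'.of T).conj T = actX F (AEval' T) := by
      ext v
      obtain ⟨v, rfl⟩ := (AEval'.of T).surjective v
      simp [actX, LinearEquiv.conj_apply, AEval'.X_smul_of]
    rw [← this, LinearEquiv.charpoly_conj, Matrix.charpoly_mulVecLin]
  have hdeg : n = ∑ f ∈ s.toFinset, s.count f * f.natDegree := by
    have h1 : x.1.charpoly.natDegree = n := by
      rw [Matrix.charpoly_natDegree_eq_dim, Fintype.card_fin]
    rw [← hT, hcp, natDegree_multiset_prod_of_monic _ (fun f hf => (hs f hf).1),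
      Finset.sum_multiset_map_count] at h1
    simpa using h1.symm
  refine ⟨s, ?_, ?_⟩
  · rw [← hT, hcp, UniqueFactorizationMonoid.normalizedFactors_prod_eq s fun f hf => (hs f hf).2,
      Multiset.map_congr rfl fun f hf => (hs f hf).1.normalize_eq_self, Multiset.map_id']
  have hqc : Nat.card F = q := by rw [Nat.card_eq_fintype_card, hq]
  rw [unipotentCharacterGL_one_eq_mob, hmob, hqc, Finset.prod_mul_distrib, Finset.prod_pow_eq_pow_sum,
    Finset.prod_pow_eq_pow_sum, ← stExp_eq]
  push_cast
  rw [← mul_assoc, ← pow_add]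
  congr 1
  have hsum : n + Multiset.card s =
      ∑ f ∈ s.toFinset, (f.natDegree - 1) * s.count f + 2 * Multiset.card s := by
    have hc : Multiset.card s = ∑ f ∈ s.toFinset, s.count f := (Multiset.toFinset_sum_count_eq s).symm
    rw [hdeg, hc, Finset.mul_sum, ← Finset.sum_add_distrib, ← Finset.sum_add_distrib]
    refine Finset.sum_congr rfl fun f hf => ?_
    obtain ⟨d, hd⟩ : ∃ d, f.natDegree = d + 1 :=
      ⟨f.natDegree - 1, by have := (hs f (Multiset.mem_toFinset.1 hf)).2.natDegree_pos; omega⟩
    rw [hd, Nat.add_sub_cancel]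
    ring
  rw [hsum, pow_add, pow_mul, neg_one_sq, one_pow, mul_one]

end Cfsg.Agent.SteinbergGL
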