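import Mathlib

/-!
The Moebius function to the top of a finite lattice of submodules of a semisimple module over a
polynomial ring.
-/

set_option autoImplicit false

namespace Cfsg.Agent.SteinbergGL

open Finset Polynomial
open scoped Classical

section Lattice

variable {L : Type*} [PartialOrder L] [OrderTop L] [Finite L]

/-- The Moebius function from an element up to the top. -/
noncomputable def mob : L → ℤ :=
  IsWellFounded.fix (· > ·) fun W ih => if W = ⊤ then 1 else -(∑ᶠ U : {U // W < U}, ih U.1 U.2)

theorem mob_top : mob (⊤ : L) = 1 := by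
  rw [mob, IsWellFounded.fix_eq, if_pos rfl]

theorem mob_eq [Fintype L] {W : L} (h : W ≠ ⊤) :
    mob W = -∑ U ∈ univ.filter (W < ·), mob U := by
  rw [mob, IsWellFounded.fix_eq, if_neg h, finsum_eq_sum_of_fintype]
  congr 1
  exact (Finset.sum_subtype _ (fun U => by simp) _).symm

theorem sum_mob_Ici [Fintype L] {W : L} (h : W ≠ ⊤) : ∑ U ∈ univ.filter (W ≤ ·), mob U = 0 := by
  have : univ.filter (W ≤ ·) = insert W (univ.filter (W < ·)) := by
    ext U
    simp only [mem_insert, mem_filter, mem_univ, true_and]
    exact ⟨fun hU => (eq_or_lt_of_le hU).imp Eq.symm id, fun hU => hU.elim (fun e => e ▸ le_rfl) le_of_lt⟩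
  rw [this, sum_insert (by simp), mob_eq h]
  ring

theorem mob_orderIso {L' : Type*} [PartialOrder L'] [OrderTop L'] [Finite L'] (e : L ≃o L') (W : L) :
    mob (e W) = mob W := by
  have := Fintype.ofFinite L
  have := Fintype.ofFinite L'
  induction W using WellFoundedGT.induction with
  | ind W ih =>
    by_cases h : W = ⊤
    · rw [h, e.map_top, mob_top, mob_top]
    · rw [mob_eq h, mob_eq (fun h' => h (e.injective (h'.trans e.map_top.symm)))]
      congr 1
      refine (Finset.sum_equiv e.toEquiv (fun U => by simp) fun U hU => ?_).symm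
      exact (ih U (by simpa using hU)).symm

theorem mob_Ici (C : L) (x : Set.Ici C) : mob x = mob x.1 := by
  have := Fintype.ofFinite L
  induction x using WellFoundedGT.induction with
  | ind x ih =>
    by_cases h : x = ⊤
    · rw [h]; simp [mob_top]
    · rw [mob_eq h, mob_eq (fun h' => h (Subtype.ext h'))]
      congr 1
      refine Finset.sum_nbij' (fun y => y.1) (fun y => if hy : C ≤ y then ⟨y, hy⟩ else ⊤) ?_ ?_ ?_ ?_ ?_
      · intro y hy; simpa using hy
      · intro y hy
        have hy' : x.1 < y := by simpa using hy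
        have hCy : C ≤ y := x.2.trans hy'.le
        simp only [dif_pos hCy]
        simp only [mem_filter, mem_univ, true_and]
        exact hy'
      · intro y _
        have hCy : C ≤ y.1 := y.2
        simp [hCy]
      · intro y hy
        have hy' : x.1 < y := by simpa using hy
        simp [show C ≤ y from x.2.trans hy'.le]
      · intro y hy
        exact ih y (by simpa using hy)

end Lattice

section Modular

variable {L : Type*} [Lattice L] [BoundedOrder L] [Finite L]

/-- Weisner's theorem. -/
theorem sum_mob_inf_eq [Fintype L] {H : L} (hH : H ≠ ⊤) (W₀ : L) (h : W₀ ≤ H) :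
    ∑ W ∈ univ.filter (fun W => W ⊓ H = W₀), mob W = 0 := by
  induction W₀ using WellFoundedGT.induction with
  | ind W₀ ih =>
    have h0 : W₀ ≠ ⊤ := fun e => hH (top_le_iff.1 (e ▸ h))
    have hfib := Finset.sum_fiberwise_of_maps_to (s := univ.filter (W₀ ≤ ·))
      (t := univ.filter fun W₁ => W₀ ≤ W₁ ∧ W₁ ≤ H) (g := fun W => W ⊓ H)
      (fun W hW => by simpa using ⟨by simpa using hW, h⟩) (fun W => mob W)
    rw [sum_mob_Ici h0, Finset.sum_eq_single W₀] at hfib
    · rw [← hfib]
      refine Finset.sum_congr ?_ fun _ _ => rfl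
      ext W
      simp only [mem_filter, mem_univ, true_and]
      exact ⟨fun hW => ⟨hW ▸ inf_le_left, hW⟩, And.right⟩
    · intro W₁ hW₁ hne
      simp only [mem_filter, mem_univ, true_and] at hW₁
      rw [← ih W₁ (lt_of_le_of_ne hW₁.1 (Ne.symm hne)) hW₁.2]
      refine Finset.sum_congr ?_ fun _ _ => rfl
      ext W
      simp only [mem_filter, mem_univ, true_and]
      exact ⟨And.right, fun hW => ⟨hW₁.1.trans (hW ▸ inf_le_left), hW⟩⟩
    · intro hn
      exact absurd (mem_filter.2 ⟨mem_univ _, le_rfl, h⟩) hn

theorem mob_bot_coatom [IsModularLattice L] {H : L} (hH : IsCoatom H) :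
    mob (⊥ : L) = -((Nat.card {C : L // IsCompl H C} : ℤ) * mob (⊥ : Set.Iic H)) := by
  have := Fintype.ofFinite L
  have hsum := sum_mob_inf_eq hH.1 ⊥ bot_le
  have hs : univ.filter (fun W : L => W ⊓ H = ⊥) = insert ⊥ (univ.filter fun C => IsCompl H C) := by
    ext W
    simp only [mem_insert, mem_filter, mem_univ, true_and]
    constructor
    · intro hW
      by_cases hb : W = ⊥
      · exact Or.inl hb
      refine Or.inr ⟨disjoint_iff.2 (inf_comm H W ▸ hW), codisjoint_iff.2 ?_⟩
      refine hH.2 _ (lt_of_le_of_ne le_sup_left fun e => hb ?_)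
      rw [← hW, eq_comm, inf_eq_left]
      exact e ▸ le_sup_right
    · rintro (rfl | hW)
      · exact bot_inf_eq H
      · exact inf_comm H W ▸ hW.inf_eq_bot
  have hnot : (⊥ : L) ∉ univ.filter fun C => IsCompl H C := by
    simp only [mem_filter, mem_univ, true_and]
    intro hc
    exact hH.1 (by simpa using hc.sup_eq_top)
  have hC : ∀ C ∈ univ.filter (fun C => IsCompl H C), mob C = mob (⊥ : Set.Iic H) := fun C hC => by
    have hc : IsCompl H C := (mem_filter.1 hC).2
    rw [← mob_orderIso hc.IicOrderIsoIci, OrderIso.map_bot, mob_Ici]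
    rfl
  rw [hs, sum_insert hnot, Finset.sum_congr rfl hC, Finset.sum_const, nsmul_eq_mul] at hsum
  rw [Nat.card_eq_fintype_card, Fintype.card_subtype]
  linarith

end Modular

end Cfsg.Agent.SteinbergGL
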