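import Cfsg.Agent.SteinbergGL.Mob

/-!
The Moebius number of the lattice of submodules of a finite semisimple module over `F[X]`.
-/

set_option autoImplicit false
set_option linter.unusedSectionVars false

namespace Cfsg.Agent.SteinbergGL

open Polynomial Module
open scoped Classical

universe u v

variable {F : Type u} [Field F] [Finite F]

/-- The action of the variable, as an endomorphism over the base field. -/
noncomputable def actX (F : Type u) [Field F] (M : Type v) [AddCommGroup M] [Module F M] [Module F[X] M]
    [IsScalarTower F F[X] M] : Module.End F M :=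
  Algebra.lsmul F F M (X : F[X])

section Basic

variable {M : Type v} [AddCommGroup M] [Module F M] [Module F[X] M] [IsScalarTower F F[X] M] [Finite M]
variable {N : Type v} [AddCommGroup N] [Module F N] [Module F[X] N] [IsScalarTower F F[X] N] [Finite N]

theorem aeval_actX (p : F[X]) : aeval (actX F M) p = Algebra.lsmul F F M p := by
  rw [actX, aeval_algHom_apply, aeval_X_left_apply]

theorem charpoly_actX_congr (e : M ≃ₗ[F[X]] N) : (actX F M).charpoly = (actX F N).charpoly := by
  have : (e.restrictScalars F).conj (actX F M) = actX F N := by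
    ext x
    simp [actX, LinearEquiv.conj_apply]
  rw [← this, LinearEquiv.charpoly_conj]

theorem charpoly_actX_prod : (actX F (M × N)).charpoly = (actX F M).charpoly * (actX F N).charpoly := by
  have : actX F (M × N) = (actX F M).prodMap (actX F N) := by
    ext x <;> simp [actX]
  rw [this, LinearMap.charpoly_prodMap]

/-- The torsion of one polynomial. -/
noncomputable def torCard (g : F[X]) (M : Type v) [AddCommGroup M] [Module F[X] M] : ℕ :=
  Nat.card {m : M // g • m = 0}

omit [Finite F] [Module F M] [IsScalarTower F F[X] M] [Finite M] [Module F N] [IsScalarTower F F[X] N]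
  [Finite N] in
theorem torCard_congr (g : F[X]) (e : M ≃ₗ[F[X]] N) : torCard g M = torCard g N :=
  Nat.card_congr (e.toEquiv.subtypeEquiv fun m => by
    constructor
    · intro h
      show g • e m = 0
      rw [← map_smul, h, map_zero]
    · intro h
      apply e.injective
      rw [map_smul, map_zero]
      exact h)

omit [Finite F] [Module F M] [IsScalarTower F F[X] M] [Finite M] [Module F N] [IsScalarTower F F[X] N]
  [Finite N] in
theorem torCard_prod (g : F[X]) : torCard g (M × N) = torCard g M * torCard g N := by
  rw [torCard, torCard, torCard, ← Nat.card_prod]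
  exact Nat.card_congr
    { toFun := fun m => (⟨m.1.1, congrArg Prod.fst m.2⟩, ⟨m.1.2, congrArg Prod.snd m.2⟩)
      invFun := fun m => ⟨(m.1.1, m.2.1), Prod.ext m.1.2 m.2.2⟩
      left_inv := fun _ => rfl
      right_inv := fun _ => rfl }

end Basic

/-- Facts about a simple module. -/
theorem simple_data {C : Type v} [AddCommGroup C] [Module F C] [Module F[X] C] [IsScalarTower F F[X] C]
    [Finite C] [IsSimpleModule F[X] C] :
    ∃ f : F[X], f.Monic ∧ Irreducible f ∧ (actX F C).charpoly = f ∧
      (∀ g : F[X], g.Monic → Irreducible g →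
        torCard g C = if g = f then Nat.card F ^ f.natDegree else 1) ∧
      ∀ (H : Type v) [AddCommGroup H] [Module F[X] H],
        Nat.card (C →ₗ[F[X]] H) = torCard f H := by
  have := IsSimpleModule.nontrivial F[X] C
  obtain ⟨v, hv⟩ := exists_ne (0 : C)
  set π := LinearMap.toSpanSingleton F[X] C v with hπ
  have hsurj : Function.Surjective π := IsSimpleModule.toSpanSingleton_surjective F[X] hv
  have hmax : Ideal.IsMaximal (LinearMap.ker π) := IsSimpleModule.ker_toSpanSingleton_isMaximal F[X] hv
  obtain ⟨g₀, hg₀⟩ := (IsPrincipalIdealRing.principal (LinearMap.ker π : Ideal F[X])).principal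
  have hg₀ne : g₀ ≠ 0 := by
    intro h
    have hker : LinearMap.ker π = ⊥ := by rw [hg₀, h]; simp
    have : Finite F[X] := Finite.of_injective π (LinearMap.ker_eq_bot.1 hker)
    exact not_finite F[X]
  set f := normalize g₀ with hf
  have hmonic : f.Monic := Polynomial.monic_normalize hg₀ne
  have hker : LinearMap.ker π = Ideal.span {f} := by
    rw [hg₀, ← Ideal.submodule_span_eq]
    exact Ideal.span_singleton_eq_span_singleton.2 (normalize_associated g₀).symm
  have hfne : f ≠ 0 := hmonic.ne_zero
  have hirr : Irreducible f :=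
    ((Ideal.span_singleton_prime hfne).1 (hker ▸ hmax.isPrime)).irreducible
  have hdvd : ∀ p : F[X], p • v = 0 ↔ f ∣ p := fun p => by
    rw [← Ideal.mem_span_singleton, ← hker]
    exact Iff.rfl
  have hfv : ∀ c : C, f • c = 0 := fun c => by
    obtain ⟨p, rfl⟩ := hsurj c
    rw [hπ, LinearMap.toSpanSingleton_apply, smul_comm, (hdvd f).2 dvd_rfl, smul_zero]
  let e : (F[X] ⧸ Ideal.span {f}) ≃ₗ[F[X]] C :=
    (Submodule.quotEquivOfEq _ _ hker.symm).trans (LinearMap.quotKerEquivOfSurjective π hsurj)
  have hrank : Module.finrank F C = f.natDegree := by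
    rw [← (e.restrictScalars F).finrank_eq]
    exact finrank_quotient_span_eq_natDegree
  refine ⟨f, hmonic, hirr, ?_, ?_, ?_⟩
  · have h0 : aeval (actX F C) (actX F C).charpoly = 0 := LinearMap.aeval_self_charpoly _
    have h1 : (actX F C).charpoly • v = 0 := by
      rw [aeval_actX] at h0
      exact LinearMap.congr_fun h0 v
    exact eq_of_monic_of_dvd_of_natDegree_le hmonic (LinearMap.charpoly_monic _) ((hdvd _).1 h1)
      (by rw [LinearMap.charpoly_natDegree, hrank])
  · intro g hg hgi
    split_ifs with h
    · subst h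
      rw [torCard, ← hrank, ← Module.natCard_eq_pow_finrank]
      exact Nat.card_congr (Equiv.subtypeUnivEquiv hfv)
    · have hcop : IsCoprime g f := hgi.coprime_iff_not_dvd.2 fun hd =>
        h (eq_of_monic_of_associated hg hmonic (hgi.associated_of_dvd hirr hd))
      obtain ⟨a, b, hab⟩ := hcop
      rw [torCard, Nat.card_eq_one_iff_unique]
      refine ⟨⟨fun x y => Subtype.ext ?_⟩, ⟨⟨0, smul_zero g⟩⟩⟩
      have h0 : ∀ z : {m : C // g • m = 0}, z.1 = 0 := fun z => by
        rw [← one_smul F[X] z.1, ← hab, add_smul, mul_smul, mul_smul, z.2, hfv, smul_zero, smul_zero,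
          add_zero]
      rw [h0 x, h0 y]
  · intro H _ _
    refine Nat.card_congr (Equiv.ofBijective
      (fun φ : C →ₗ[F[X]] H => (⟨φ v, by rw [← map_smul, hfv, map_zero]⟩ : {h : H // f • h = 0})) ⟨?_, ?_⟩)
    · intro φ ψ h
      ext c
      obtain ⟨p, rfl⟩ := hsurj c
      simp only [Subtype.mk.injEq] at h
      rw [hπ, LinearMap.toSpanSingleton_apply, map_smul, map_smul, h]
    · rintro ⟨h, hh⟩
      have hle : Ideal.span {f} ≤ LinearMap.ker (LinearMap.toSpanSingleton F[X] H h) := by
        rw [Ideal.span_le, Set.singleton_subset_iff]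
        exact hh
      refine ⟨(Submodule.liftQ _ _ hle).comp e.symm.toLinearMap, Subtype.ext ?_⟩
      have he : e.symm v = Submodule.Quotient.mk 1 := by
        rw [LinearEquiv.symm_apply_eq]
        show v = π 1
        rw [hπ, LinearMap.toSpanSingleton_apply, one_smul]
      show Submodule.liftQ _ _ hle (e.symm v) = h
      rw [he, Submodule.liftQ_apply, LinearMap.toSpanSingleton_apply, one_smul]

/-- The complements of a submodule with a given complement. -/
theorem card_isCompl {R : Type*} [Ring R] {M : Type*} [AddCommGroup M] [Module R M]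
    {H C : Submodule R M} (h : IsCompl H C) :
    Nat.card {C' : Submodule R M // IsCompl H C'} = Nat.card (C →ₗ[R] H) :=
  Nat.card_congr <| H.isComplEquivProj.trans
    { toFun := fun g => g.1.comp C.subtype
      invFun := fun g => ⟨LinearMap.ofIsCompl h LinearMap.id g, fun x => LinearMap.ofIsCompl_apply_left h x⟩
      left_inv := fun g => Subtype.ext <| LinearMap.ofIsCompl_eq h (fun u => (g.2 u).symm) fun _ => rfl
      right_inv := fun g => LinearMap.ext fun x => LinearMap.ofIsCompl_apply_right h x }

/-- The exponent in the Steinberg value. -/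
noncomputable def stExp (s : Multiset F[X]) : ℕ :=
  ∑ f ∈ s.toFinset, f.natDegree * (s.count f).choose 2

theorem stExp_cons (f : F[X]) (s : Multiset F[X]) :
    stExp (f ::ₘ s) = f.natDegree * s.count f + stExp s := by
  have h1 : stExp s = ∑ g ∈ (f ::ₘ s).toFinset, g.natDegree * (s.count g).choose 2 := by
    refine Finset.sum_subset (by simp [Multiset.toFinset_cons]) fun g _ hg => ?_
    rw [Multiset.mem_toFinset] at hg
    simp [Multiset.count_eq_zero_of_notMem hg]
  have hf : f ∈ (f ::ₘ s).toFinset := by simp
  rw [h1, stExp, ← Finset.add_sum_erase _ _ hf, ← Finset.add_sum_erase _ _ hf, ← add_assoc,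
    Multiset.count_cons_self, Nat.choose_succ_succ', Nat.choose_one_right, mul_add]
  congr 1
  refine Finset.sum_congr rfl fun g hg => ?_
  rw [Multiset.count_cons_of_ne (Finset.ne_of_mem_erase hg)]

/-- The Moebius number and the factors of the characteristic polynomial. -/
theorem mob_module : ∀ (N : ℕ) (M : Type v) [AddCommGroup M] [Module F M] [Module F[X] M]
    [IsScalarTower F F[X] M] [Finite M] [IsSemisimpleModule F[X] M], Nat.card M = N →
    ∃ s : Multiset F[X], (∀ f ∈ s, f.Monic ∧ Irreducible f) ∧ (actX F M).charpoly = s.prod ∧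
      (∀ g : F[X], g.Monic → Irreducible g → torCard g M = Nat.card F ^ (g.natDegree * s.count g)) ∧
      mob (⊥ : Submodule F[X] M) = (-1) ^ Multiset.card s * (Nat.card F : ℤ) ^ stExp s := by
  intro N
  induction N using Nat.strong_induction_on with
  | _ N ih =>
    intro M _ _ _ _ _ _ hN
    rcases subsingleton_or_nontrivial M with hM | hM
    · refine ⟨0, by simp, ?_, fun g _ _ => ?_, ?_⟩
      · refine ((LinearMap.charpoly_monic _).natDegree_eq_zero.1 ?_)
        rw [LinearMap.charpoly_natDegree, Module.finrank_zero_of_subsingleton]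
      · rw [torCard]
        simp
      · rw [Subsingleton.elim (⊥ : Submodule F[X] M) ⊤, mob_top]
        simp [stExp]
    obtain ⟨C, hC, -⟩ := (IsAtomic.eq_bot_or_exists_atom_le (⊤ : Submodule F[X] M)).resolve_left
      top_ne_bot
    obtain ⟨H, hH⟩ := exists_isCompl C
    have hHC : IsCoatom H := hH.isAtom_iff_isCoatom.1 hC
    have : IsSimpleModule F[X] C := isSimpleModule_iff_isAtom.2 hC
    have hlt : Nat.card H < N := by
      rw [← hN]
      refine lt_of_le_of_ne (Nat.card_le_card_of_injective _ Subtype.val_injective) fun he => hHC.1 ?_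
      have hb := (Nat.bijective_iff_injective_and_card _).2 ⟨Subtype.val_injective (p := fun x => x ∈ H), he⟩
      exact eq_top_iff.2 fun x _ => by obtain ⟨y, rfl⟩ := hb.2 x; exact y.2
    obtain ⟨s, hs, hcp, htor, hmob⟩ := ih _ hlt H rfl
    obtain ⟨f, hfm, hfi, hfcp, hftor, hfhom⟩ := simple_data (F := F) (C := C)
    let e := Submodule.prodEquivOfIsCompl C H hH
    refine ⟨f ::ₘ s, ?_, ?_, ?_, ?_⟩
    · intro g hg
      rcases Multiset.mem_cons.1 hg with rfl | hg
      · exact ⟨hfm, hfi⟩
      · exact hs g hg
    · rw [← charpoly_actX_congr e, charpoly_actX_prod, hfcp, hcp, Multiset.prod_cons]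
    · intro g hg hgi
      rw [← torCard_congr g e, torCard_prod, hftor g hg hgi, htor g hg hgi, Multiset.count_cons]
      split_ifs with h
      · subst h; rw [← pow_add]; congr 1; ring
      · simp
    · rw [mob_bot_coatom hHC, card_isCompl hH.symm, hfhom, htor f hfm hfi, ← mob_orderIso H.mapIic.symm,
        OrderIso.map_bot, hmob, Multiset.card_cons, stExp_cons]
      push_cast
      ring

end Cfsg.Agent.SteinbergGL
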